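import Groth.Agent.CycK0Lib.Add
import Groth.Agent.DevissLib.KilledImm
import Groth.Agent.DevissLib.ClosedImm
import Groth.Agent.ProjClosedImmLib.Main

/-!
# Modules killed by the ideal of a closed immersion, stalkwise
-/

set_option autoImplicit false
set_option linter.style.haveILetI false
set_option linter.unusedSectionVars false

universe u

open CategoryTheory CategoryTheory.Limits AlgebraicGeometry TopologicalSpace Opposite

noncomputable section

namespace CycKSuppLib

open DevissLib (St gm)
open CycK0Lib (P AddOn LocFin)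

variable {X Z : Scheme.{u}} (i : Z ⟶ X)

/-- Supported on `Z` and killed by its ideal. -/
def Kil (F : X.Modules) : Prop :=
  CohB1.support F ⊆ Set.range ⇑i ∧
    ∀ (z : Z) (r : X.presheaf.stalk (i z)), i.stalkMap z r = 0 → ∀ m : (St (i z)).obj F, r • m = 0

variable {i}

theorem Kil.of_mono {F G : X.Modules} (h : Kil i G) (φ : F ⟶ G) [Mono φ] : Kil i F :=
  ⟨(DevissLib.support_mono φ).trans h.1, fun z r hr m =>
    (ModuleCat.mono_iff_injective ((St (i z)).map φ)).1 inferInstance (by
      rw [map_zero, map_smul]; exact h.2 z r hr _)⟩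

theorem Kil.of_epi {F G : X.Modules} (h : Kil i F) (φ : F ⟶ G) [Epi φ] : Kil i G :=
  ⟨(DevissLib.support_epi φ).trans h.1, fun z r hr m => by
    obtain ⟨m, rfl⟩ := (ModuleCat.epi_iff_surjective ((St (i z)).map φ)).1 inferInstance m
    rw [← map_smul, h.2 z r hr m, map_zero]⟩

theorem Kil.of_iso {F G : X.Modules} (h : Kil i F) (e : F ≅ G) : Kil i G := h.of_epi e.hom

theorem Kil.sigma {I : Type u} {F : I → X.Modules} (hF : LocFin F) (h : ∀ j, Kil i (F j)) : Kil i (∐ F) := by
  refine ⟨(CycK0Lib.support_sigma hF).trans (Set.iUnion_subset fun j => (h j).1), fun z r hr m => ?_⟩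
  obtain ⟨S, hS⟩ := CycK0Lib.exists_finset_at hF (i z)
  refine (CycK0Lib.stalkEquiv hS).injective ?_
  rw [map_smul, map_zero]
  funext j
  exact (h j.1).2 z r hr _

theorem Kil.killed {F : X.Modules} (h : Kil i F) [QuasiCompact i] : ClSub.KilledByIdeal i.ker F := fun U a ha m => by
  refine TopCat.Presheaf.section_ext ((QCohLib.toAbF X).obj F : TopCat.Sheaf AddCommGrpCat.{u} X.toTopCat) U.1 _ _
    fun p hp => ?_
  show gm F p hp (a • m) = gm F p hp 0
  rw [DevissLib.gm_zero]
  by_cases hr : p ∈ Set.range ⇑i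
  · obtain ⟨z, rfl⟩ := hr
    refine (DevissLib.gm_smul F (i z) hp a m).trans (h.2 z _ ?_ _)
    rw [Scheme.Hom.germ_stalkMap_apply]
    rw [Scheme.Hom.ker_apply, RingHom.mem_ker] at ha
    refine (congrArg _ ha).trans (map_zero _)
  · exact @Subsingleton.elim _ (not_not.mp fun hs => hr (h.1 hs)) _ _

variable (i) [IsClosedImmersion i]

theorem killed_push (G : Z.Modules) : ClSub.KilledByIdeal i.ker ((Coh.push i).obj G) := fun U a ha m => by
  refine (QCohLib.push_smul i G a m).trans ?_
  rw [show i.app U.1 a = 0 by rwa [Scheme.Hom.ker_apply, RingHom.mem_ker] at ha]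
  exact zero_smul Γ(Z, i ⁻¹ᵁ U.1) (show Γ(G, i ⁻¹ᵁ U.1) from m)

theorem kil_of_killed {F : X.Modules} (h : ClSub.KilledByIdeal i.ker F) : Kil i F :=
  ⟨fun x hx => by_contra fun hr => hx (DevissLib.stalk_eq_zero_of_notMem i h hr),
    fun z r hr m => DevissLib.stalk_killed i h z r hr m⟩

theorem kil_push (G : Z.Modules) : Kil i ((Coh.push i).obj G) := kil_of_killed i (killed_push i G)

instance faithful_push : (Scheme.Modules.pushforward i).Faithful where
  map_injective {G H} a b hab := by
    refine Scheme.Modules.hom_ext a b fun U => ?_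
    obtain ⟨O', hO', hO''⟩ := i.isClosedEmbedding.isInducing.isOpen_iff.mp U.2
    have e : i ⁻¹ᵁ ⟨O', hO'⟩ = U := Opens.ext hO''
    subst e
    exact congrArg (fun φ : (Scheme.Modules.pushforward i).obj G ⟶ (Scheme.Modules.pushforward i).obj H =>
      φ.app ⟨O', hO'⟩) hab

theorem isIso_counit (G : Z.Modules) :
    IsIso ((Scheme.Modules.pullbackPushforwardAdjunction i).counit.app G) := by
  let adj := Scheme.Modules.pullbackPushforwardAdjunction i
  haveI : IsIso (adj.unit.app ((Scheme.Modules.pushforward i).obj G)) :=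
    DevissLib.isIso_unit_of_killed i (killed_push i G)
  haveI : IsIso ((Scheme.Modules.pushforward i).map (adj.counit.app G)) :=
    IsIso.of_isIso_fac_left (adj.right_triangle_components G)
  exact isIso_of_reflects_iso (adj.counit.app G) (Scheme.Modules.pushforward i)

/-- The pullback of a direct image. -/
def pullPushIso (G : Z.Modules) : (Scheme.Modules.pullback i).obj ((Coh.push i).obj G) ≅ G :=
  haveI := isIso_counit i G
  asIso ((Scheme.Modules.pullbackPushforwardAdjunction i).counit.app G)

/-- A killed module is the direct image of its pullback. -/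
def pushPullIso {F : X.Modules} (h : Kil i F) : (Coh.push i).obj ((Scheme.Modules.pullback i).obj F) ≅ F :=
  haveI := DevissLib.isIso_unit_of_killed i h.killed
  (asIso ((Scheme.Modules.pullbackPushforwardAdjunction i).unit.app F)).symm

variable [IsLocallyNoetherian X]

theorem isCoh_pull {F : X.Modules} (hc : Coh.IsCoh F) (h : Kil i F) : Coh.IsCoh ((Scheme.Modules.pullback i).obj F) :=
  DevissLib.isCoh_of_isCoh_push i _ (QCohLib.isCoh_of_iso (pushPullIso i h).symm hc)

/-- The class on `Z` of a killed module. -/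
def kappa (F : X.Modules) : KZero.K0sub (P fun _ : Z => True) :=
  KZero.clSub (P fun _ : Z => True) ((Scheme.Modules.pullback i).obj F)

theorem kappa_add {S : ShortComplex X.Modules} (hS : S.ShortExact) (h₂ : Coh.IsCoh S.X₂) (hk : Kil i S.X₂)
    (h₁ : Coh.IsCoh S.X₁) (h₃ : Coh.IsCoh S.X₃) : kappa i S.X₂ = kappa i S.X₁ + kappa i S.X₃ := by
  haveI := LocallyOfFiniteType.isLocallyNoetherian i
  haveI := hS.mono_f
  haveI := hS.epi_g
  have hk₁ := hk.of_mono S.f
  have hk₃ := hk.of_epi S.g
  haveI := ProjClosedImmLib.preservesHomology_push i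
  let P' := Scheme.Modules.pushforward i
  let S' := S.map (Scheme.Modules.pullback i)
  have u1 := DevissLib.isIso_unit_of_killed i (F := S.X₁) hk₁.killed
  have u2 := DevissLib.isIso_unit_of_killed i (F := S.X₂) hk.killed
  have u3 := DevissLib.isIso_unit_of_killed i (F := S.X₃) hk₃.killed
  let e : S ≅ S'.map P' := ShortComplex.isoMk
    (@asIso _ _ _ _ ((Scheme.Modules.pullbackPushforwardAdjunction i).unit.app S.X₁) u1)
    (@asIso _ _ _ _ ((Scheme.Modules.pullbackPushforwardAdjunction i).unit.app S.X₂) u2)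
    (@asIso _ _ _ _ ((Scheme.Modules.pullbackPushforwardAdjunction i).unit.app S.X₃) u3)
    (((Scheme.Modules.pullbackPushforwardAdjunction i).unit.naturality S.f).symm)
    (((Scheme.Modules.pullbackPushforwardAdjunction i).unit.naturality S.g).symm)
  have hS' : (S'.map P').ShortExact := ShortComplex.shortExact_of_iso e hS
  haveI : Mono S'.f := P'.mono_of_mono_map hS'.mono_f
  haveI : Epi S'.g := P'.epi_of_epi_map hS'.epi_g
  have hexact : S'.Exact := (S'.exact_map_iff_of_faithful P').1 hS'.exact
  exact CycK0Lib.addOn_clSub.add S' { exact := hexact, mono_f := inferInstance, epi_g := inferInstance }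
    (P.mk (isCoh_pull i h₁ hk₁) fun _ _ => trivial) (P.mk (isCoh_pull i h₂ hk) fun _ _ => trivial)
    (P.mk (isCoh_pull i h₃ hk₃) fun _ _ => trivial)

theorem kappa_iso {F G : X.Modules} (e : F ≅ G) (hc : Coh.IsCoh F) (h : Kil i F) : kappa i F = kappa i G :=
  haveI := LocallyOfFiniteType.isLocallyNoetherian i
  CycK0Lib.addOn_clSub.iso ((Scheme.Modules.pullback i).mapIso e) (P.mk (isCoh_pull i hc h) fun _ _ => trivial)

theorem kappa_push (G : Z.Modules) (hG : Coh.IsCoh G) :
    kappa i ((Coh.push i).obj G) = KZero.clSub (P fun _ : Z => True) G :=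
  haveI := LocallyOfFiniteType.isLocallyNoetherian i
  CycK0Lib.addOn_clSub.iso (pullPushIso i G)
    (P.mk (isCoh_pull i (QCohLib.isCoh_push_finite i G hG) (kil_push i G)) fun _ _ => trivial)

end CycKSuppLib

end
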