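import Groth.Agent.CycKSuppLib.Adic

/-!
# `K₀` of coherent modules supported on a closed subscheme
-/

set_option autoImplicit false
set_option linter.style.haveILetI false
set_option linter.unusedSectionVars false

universe u

open CategoryTheory CategoryTheory.Limits AlgebraicGeometry TopologicalSpace Opposite

noncomputable section

namespace CycKSuppLib

open CycK0Lib (P AddOn LocFin fam)

variable {X Z : Scheme.{u}} (i : Z ⟶ X) [IsClosedImmersion i] [IsLocallyNoetherian X]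

/-- The class on `Z` of a coherent module supported on `Z`. -/
def psi (A : X.Modules) : KZero.K0sub (P fun _ : Z => True) :=
  open Classical in
  if h : Nonempty (Filt i A) then kappa i h.some.gr else 0

theorem psi_eq {A : X.Modules} (hA : Coh.IsCoh A) (Φ : Filt i A) : psi i A = kappa i Φ.gr := by
  rw [psi, dif_pos ⟨Φ⟩]
  exact kappa_gr_indep hA _ _

variable {i}

section SES

variable {S : ShortComplex X.Modules} (hS : S.ShortExact) (Φ : Filt i S.X₂)

include hS in
omit [IsClosedImmersion i] [IsLocallyNoetherian X] in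
theorem mk_f_eq [Mono S.f] : Subobject.mk (kernel.ι S.g) = Subobject.mk S.f :=
  (Subobject.mk_eq_mk_of_comm S.f (kernel.ι S.g) (hS.fIsKernel.conePointUniqueUpToIso (limit.isLimit (parallelPair S.g 0)))
    (hS.fIsKernel.conePointUniqueUpToIso_hom_comp (limit.isLimit (parallelPair S.g 0)) WalkingParallelPair.zero)).symm

variable [Mono S.f]

/-- The first term of an induced filtration. -/
abbrev subF (n : ℕ) : Subobject S.X₁ :=
  Subobject.mk (Subobject.ofLE (Subobject.mk S.f ⊓ Φ.F n) (Subobject.mk S.f) inf_le_left ≫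
    (Subobject.underlyingIso S.f).hom)

omit [IsClosedImmersion i] [IsLocallyNoetherian X] in
theorem subF_anti (n : ℕ) : subF Φ (n + 1) ≤ subF Φ n :=
  Subobject.mk_le_mk_of_comm (Subobject.ofLE _ _ (inf_le_inf_left _ (Φ.anti n))) (by
    rw [Subobject.ofLE_comp_ofLE_assoc])

omit [IsClosedImmersion i] [IsLocallyNoetherian X] in
theorem leK (n : ℕ) : Φ.F (n + 1) ⊔ (Subobject.mk S.f ⊓ Φ.F n) ≤ Φ.F n := sup_le (Φ.anti n) inf_le_right

omit [IsClosedImmersion i] [IsLocallyNoetherian X] in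
theorem nonempty_subQ (n : ℕ) : Nonempty (Q (subF_anti Φ n) ≅
    Q (le_sup_left : Φ.F (n + 1) ≤ Φ.F (n + 1) ⊔ (Subobject.mk S.f ⊓ Φ.F n))) := by
  let e0 : Q (subF_anti Φ n) ≅ Q (inf_le_inf_left (Subobject.mk S.f) (Φ.anti n)) :=
    cokernel.mapIso _ _ (Subobject.underlyingIso _) (Subobject.underlyingIso _) (by
      rw [← cancel_mono (Subobject.ofLE (Subobject.mk S.f ⊓ Φ.F n) (Subobject.mk S.f) inf_le_left ≫
        (Subobject.underlyingIso S.f).hom), Category.assoc, Subobject.underlyingIso_hom_comp_eq_mk,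
        Subobject.ofLE_arrow, Category.assoc, Subobject.ofLE_comp_ofLE_assoc,
        Subobject.underlyingIso_hom_comp_eq_mk])
  refine ⟨e0 ≪≫ QIso (inf_le_inf_left (Subobject.mk S.f) (Φ.anti n)) inf_le_right rfl ?_ ≪≫
    (nonempty_second (Φ.F (n + 1)) (Subobject.mk S.f ⊓ Φ.F n)).some⟩
  exact le_antisymm (le_inf inf_le_right (le_inf inf_le_left (inf_le_right.trans (Φ.anti n))))
    (le_inf (inf_le_right.trans inf_le_left) inf_le_left)

variable (h₂ : Coh.IsCoh S.X₂) (h₁ : Coh.IsCoh S.X₁)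

include h₂ h₁ in
/-- The induced filtration of the first term. -/
def subFilt : Filt i S.X₁ where
  F := subF Φ
  top := by
    haveI : IsIso (Subobject.ofLE (Subobject.mk S.f ⊓ Φ.F 0) (Subobject.mk S.f) inf_le_left) := by
      refine ⟨Subobject.ofLE _ _ (le_inf le_rfl (Φ.top ▸ le_top)), ?_, ?_⟩ <;>
        rw [Subobject.ofLE_comp_ofLE, Subobject.ofLE_refl]
    exact Subobject.mk_eq_top_of_isIso _
  anti := subF_anti Φ
  coh n := QCohLib.isCoh_of_iso (Subobject.underlyingIso _).symm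
    (isCoh_inf h₂ (QCohLib.isCoh_of_iso (Subobject.underlyingIso S.f).symm h₁) (Φ.coh n))
  lf := Φ.lf.mono fun n =>
    (DevissLib.support_iso (Subobject.underlyingIso _)).subset.trans
      (DevissLib.support_mono (Subobject.ofLE (Subobject.mk S.f ⊓ Φ.F n.down) _ inf_le_right))
  kil n := by
    haveI := (thirdCx_shortExact (le_sup_left : Φ.F (n + 1) ≤ _) (leK Φ n)).mono_f
    exact ((Φ.kil n).of_mono (thirdCx (le_sup_left : Φ.F (n + 1) ≤ _) (leK Φ n)).f).of_iso
      (nonempty_subQ Φ n).some.symm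

include hS in
omit [IsClosedImmersion i] [IsLocallyNoetherian X] in
theorem nonempty_quotQ (n : ℕ) : Nonempty (Q (leK Φ n) ≅ Q (img_mono S.g (Φ.anti n))) :=
  ⟨QIso (leK Φ n) (sup_le (Φ.anti n) inf_le_right) rfl (by rw [mk_f_eq hS]) ≪≫ (nonempty_img S.g (Φ.anti n)).some⟩

/-- The induced filtration of the last term. -/
def quotFilt (h₃ : Coh.IsCoh S.X₃) : Filt i S.X₃ where
  F n := img S.g (Φ.F n)
  top := by
    haveI := hS.epi_g
    refine eq_top_iff.2 (le_of_epi ((⊤ : Subobject S.X₂).arrow ≫ S.g ≫ inv (⊤ : Subobject S.X₃).arrow) ?_)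
    rw [Category.assoc, Category.assoc, IsIso.inv_hom_id, Category.comp_id, Φ.top, ← toImg_arrow]
    exact Subobject.factors_comp_arrow _
  anti n := img_mono S.g (Φ.anti n)
  coh n := QCohLib.isCoh_of_iso (Subobject.underlyingIso _).symm (DevissLib.isCoh_image _ (Φ.coh n) h₃)
  lf := Φ.lf.mono fun n => DevissLib.support_epi (toImg S.g (Φ.F n.down))
  kil n := by
    haveI := (thirdCx_shortExact (le_sup_left : Φ.F (n + 1) ≤ _) (leK Φ n)).epi_g
    exact ((Φ.kil n).of_epi (thirdCx (le_sup_left : Φ.F (n + 1) ≤ _) (leK Φ n)).g).of_iso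
      (nonempty_quotQ hS Φ n).some

end SES

variable (i)

theorem psi_add {S : ShortComplex X.Modules} (hS : S.ShortExact) (h₁ : Coh.IsCoh S.X₁) (h₂ : Coh.IsCoh S.X₂)
    (h₃ : Coh.IsCoh S.X₃) (hs : CohB1.support S.X₂ ⊆ Set.range ⇑i) : psi i S.X₂ = psi i S.X₁ + psi i S.X₃ := by
  haveI := hS.mono_f
  obtain ⟨Φ⟩ := nonempty_filt i h₂ hs
  let ΦA := subFilt Φ h₂ h₁
  let ΦC := quotFilt hS Φ h₃
  rw [psi_eq i h₂ Φ, psi_eq i h₁ ΦA, psi_eq i h₃ ΦC]
  let T : ULift.{u} ℕ → ShortComplex X.Modules := fun n =>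
    ShortComplex.mk ((nonempty_subQ Φ n.down).some.hom ≫ (thirdCx (le_sup_left : Φ.F (n.down + 1) ≤ _) (leK Φ n.down)).f)
      ((thirdCx (le_sup_left : Φ.F (n.down + 1) ≤ _) (leK Φ n.down)).g ≫ (nonempty_quotQ hS Φ n.down).some.hom)
      (by rw [Category.assoc, ShortComplex.zero_assoc, zero_comp, comp_zero])
  have hT : ∀ n, (T n).ShortExact := fun n => by
    refine ShortComplex.shortExact_of_iso (S₁ := thirdCx (le_sup_left : Φ.F (n.down + 1) ≤ _) (leK Φ n.down))
      (ShortComplex.isoMk (S₁ := thirdCx (le_sup_left : Φ.F (n.down + 1) ≤ _) (leK Φ n.down)) (S₂ := T n)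
        (nonempty_subQ Φ n.down).some.symm (Iso.refl _) (nonempty_quotQ hS Φ n.down).some ?_ ?_)
      (thirdCx_shortExact _ _)
    · simp [T]
    · simp [T]
  exact kappa_add i (CycK0Lib.sigmaCx_shortExact T Φ.locFin_gr hT) Φ.isCoh_gr Φ.kil_gr ΦA.isCoh_gr ΦC.isCoh_gr

theorem addOn_psi : AddOn (fun x => x ∈ Set.range ⇑i) (psi i) := ⟨fun _ hS h₁ h₂ h₃ =>
  psi_add i hS h₁.coh h₂.coh h₃.coh fun _ hx => h₂.supp hx⟩

theorem psi_of_kil {A : X.Modules} (hA : Coh.IsCoh A) (hk : Kil i A) : psi i A = kappa i A := by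
  let G : ℕ → Subobject A := fun n => if n = 0 then ⊤ else ⊥
  have hz : ∀ _ : ℕ, IsZero ((⊥ : Subobject A) : X.Modules) := fun _ => (isZero_zero _).of_iso Subobject.botCoeIsoZero
  have hcoh : ∀ n, Coh.IsCoh (G n : X.Modules) := fun n => by
    by_cases h : n = 0
    · rw [show G n = ⊤ from if_pos h]; exact QCohLib.isCoh_of_iso (asIso (⊤ : Subobject A).arrow).symm hA
    · rw [show G n = ⊥ from if_neg h]; exact DevissLib.isCoh_of_isZero (hz n)
  have hsupp : ∀ n, n ≠ 0 → CohB1.support (G n : X.Modules) = ∅ := fun n h => by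
    rw [show G n = ⊥ from if_neg h]
    exact DevissLib.support_of_isZero (hz n)
  have hkil : ∀ n, Kil i (G n : X.Modules) := fun n => hk.of_mono (G n).arrow
  have hlf : LocFin (fam fun n => (G n : X.Modules)) := fun x =>
    ⟨Set.univ, Filter.univ_mem, (Set.finite_singleton (⟨0⟩ : ULift.{u} ℕ)).subset fun n hn => by
      obtain ⟨y, hy, -⟩ := hn
      by_contra hne
      replace hy : y ∈ CohB1.support (G n.down : X.Modules) := hy
      rw [hsupp n.down fun e => hne (ULift.ext _ _ e)] at hy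
      exact hy⟩
  let Φ : Filt i A :=
    { F := G
      top := if_pos rfl
      anti := fun n => by rw [show G (n + 1) = ⊥ from if_neg (Nat.succ_ne_zero n)]; exact bot_le
      coh := hcoh
      lf := hlf
      kil := fun n => (hkil n).of_epi (cokernel.π _) }
  rw [psi_eq i hA Φ]
  have e := kappa_swindle i (fun n => Subobject.ofLE (G (n + 1)) (G n) (Φ.anti n)) hlf hcoh hkil
  refine e.symm.trans (kappa_iso i ?_ (hcoh 0) (hkil 0))
  exact Subobject.isoOfEq _ _ (if_pos rfl) ≪≫ asIso (⊤ : Subobject A).arrow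

theorem clSub_gr {A : X.Modules} (Φ : Filt i A) (hA : CohB1.support A ⊆ Set.range ⇑i) :
    KZero.clSub (P fun x => x ∈ Set.range ⇑i) A = KZero.clSub (P fun x => x ∈ Set.range ⇑i) Φ.gr := by
  have hP : ∀ n, P (fun x => x ∈ Set.range ⇑i) (Φ.F n : X.Modules) := fun n =>
    P.mk (Φ.coh n) fun x hx => hA (DevissLib.support_mono (Φ.F n).arrow hx)
  refine Eq.trans ?_ (CycK0Lib.addOn_clSub.swindle (G := fun n => (Φ.F n : X.Modules))
    (fun n => Subobject.ofLE (Φ.F (n + 1)) (Φ.F n) (Φ.anti n)) Φ.lf hP)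
  exact (CycK0Lib.addOn_clSub.iso (Subobject.isoOfEq _ _ Φ.top ≪≫ asIso (⊤ : Subobject A).arrow) (hP 0)).symm

theorem exists_equiv : ∃ φ : KZero.K0sub (P fun _ : Z => True) ≃+ KZero.K0sub (P fun x : X => x ∈ Set.range ⇑i),
    ∀ F : Z.Modules, Coh.IsCoh F → φ (KZero.clSub (P fun _ : Z => True) F) =
      KZero.clSub (P fun x : X => x ∈ Set.range ⇑i) ((Coh.push i).obj F) := by
  haveI := LocallyOfFiniteType.isLocallyNoetherian i
  haveI := ProjClosedImmLib.preservesHomology_push i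
  have hPpush : ∀ F : Z.Modules, Coh.IsCoh F → P (fun x => x ∈ Set.range ⇑i) ((Coh.push i).obj F) := fun F hF =>
    P.mk (QCohLib.isCoh_push_finite i F hF) fun x hx => (kil_push i F).1 hx
  have hadd : AddOn (fun _ : Z => True) fun F => KZero.clSub (P fun x : X => x ∈ Set.range ⇑i) ((Coh.push i).obj F) :=
    ⟨fun S hS h₁ h₂ h₃ => CycK0Lib.addOn_clSub.add (S.map (Scheme.Modules.pushforward i))
      (hS.map_of_exact (Scheme.Modules.pushforward i)) (hPpush _ h₁.coh) (hPpush _ h₂.coh) (hPpush _ h₃.coh)⟩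
  obtain ⟨φ, hφ⟩ := CycK0Lib.exists_lift hadd
  obtain ⟨ψ, hψ⟩ := CycK0Lib.exists_lift (addOn_psi i)
  have h1 : ∀ a, ψ (φ a) = a := fun a => by
    refine CycK0Lib.induction_clSub (motive := fun a => ψ (φ a) = a) (by rw [map_zero, map_zero]) (fun F hF => ?_)
      (fun a ha => by rw [map_neg, map_neg, ha]) (fun a b ha hb => by rw [map_add, map_add, ha, hb]) a
    rw [hφ F hF, hψ _ (hPpush F hF.coh), psi_of_kil i (hPpush F hF.coh).coh (kil_push i F), kappa_push i F hF.coh]
  have h2 : ∀ b, φ (ψ b) = b := fun b => by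
    refine CycK0Lib.induction_clSub (motive := fun b => φ (ψ b) = b) (by rw [map_zero, map_zero]) (fun G hG => ?_)
      (fun a ha => by rw [map_neg, map_neg, ha]) (fun a b ha hb => by rw [map_add, map_add, ha, hb]) b
    obtain ⟨Φ⟩ := nonempty_filt i hG.coh fun x hx => hG.supp hx
    rw [hψ G hG, psi_eq i hG.coh Φ, kappa, hφ _ (P.mk (isCoh_pull i Φ.isCoh_gr Φ.kil_gr) fun _ _ => trivial),
      clSub_gr i Φ fun x hx => hG.supp hx]
    exact CycK0Lib.addOn_clSub.iso (pushPullIso i Φ.kil_gr)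
      (hPpush _ (isCoh_pull i Φ.isCoh_gr Φ.kil_gr))
  exact ⟨{ toFun := φ, invFun := ψ, left_inv := h1, right_inv := h2, map_add' := map_add φ },
    fun F hF => hφ F (P.mk hF fun _ _ => trivial)⟩

end CycKSuppLib

end
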