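import Groth.Agent.CycKSuppLib.Filt
import Groth.Agent.KFlatLib.QCohPull
import Groth.Agent.FComplLib.Modules

/-!
# The adic filtration of a coherent module supported on a closed subscheme
-/

set_option autoImplicit false
set_option linter.style.haveILetI false
set_option linter.unusedSectionVars false

universe u

open CategoryTheory CategoryTheory.Limits AlgebraicGeometry TopologicalSpace Opposite
open scoped TensorProduct

noncomputable section

namespace CycKSuppLib

open DevissLib (St gm)
open CycK0Lib (P AddOn LocFin fam)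

variable {X Z : Scheme.{u}} (i : Z ⟶ X) [IsClosedImmersion i] {A : X.Modules}

/-- The unit of the adjunction. -/
abbrev unit' (S : X.Modules) : S ⟶ (Coh.push i).obj ((Scheme.Modules.pullback i).obj S) :=
  (Scheme.Modules.pullbackPushforwardAdjunction i).unit.app S

/-- One step of the adic filtration. -/
def stepSub (S : Subobject A) : Subobject A :=
  Subobject.mk (kernel.ι (unit' i (S : X.Modules)) ≫ S.arrow)

theorem stepSub_le (S : Subobject A) : stepSub i S ≤ S := Subobject.mk_le_of_comm (kernel.ι _) rfl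

theorem kil_step (S : Subobject A) : Kil i (Q (stepSub_le i S)) := by
  let η := unit' i (S : X.Modules)
  have hk : Kil i (cokernel (kernel.ι η)) :=
    (((kil_push i _).of_mono (Abelian.image.ι η)).of_iso (Abelian.coimageIsoImage η).symm)
  refine hk.of_iso (cokernel.mapIso _ _ (Subobject.underlyingIso _).symm (Iso.refl _) ?_)
  rw [← cancel_mono S.arrow]
  simp [stepSub, η]

/-- The adic filtration. -/
def adic (A : X.Modules) : ℕ → Subobject A
  | 0 => ⊤
  | n + 1 => stepSub i (adic A n)

theorem isCoh_stepSub [IsLocallyNoetherian X] (S : Subobject A) (hS : Coh.IsCoh (S : X.Modules)) :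
    Coh.IsCoh (stepSub i S : X.Modules) := by
  haveI : Coh.IsQCoh (S : X.Modules) := hS.1
  haveI := KFlatLib.isQCoh_pullback i (S : X.Modules)
  exact QCohLib.isCoh_of_iso (Subobject.underlyingIso _).symm
    ((P.mk hS (D := fun _ : X => True) fun _ _ => trivial).kernel _
      (QCohLib.isQCoh_pushforward i ((Scheme.Modules.pullback i).obj (S : X.Modules)))).coh

theorem isCoh_adic [IsLocallyNoetherian X] (hA : Coh.IsCoh A) : ∀ n, Coh.IsCoh (adic i A n : X.Modules)
  | 0 => QCohLib.isCoh_of_iso (asIso (⊤ : Subobject A).arrow).symm hA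
  | n + 1 => isCoh_stepSub i _ (isCoh_adic hA n)

theorem mem_of_unit_eq_zero (S : X.Modules) (z : Z) {m : (St (i z)).obj S}
    (hm : ((St (i z)).map (unit' i S)).hom m = 0) :
    m ∈ RingHom.ker (i.stalkMap z).hom • (⊤ : Submodule (X.presheaf.stalk (i z)) ((St (i z)).obj S)) := by
  letI := (i.stalkMap z).hom.toAlgebra
  obtain ⟨U, hU, s, rfl⟩ := DevissLib.exists_gm_eq S (i z) m
  have h0 := (DevissLib.gm_app (unit' i S) (i z) hU s).symm.trans hm
  let G := (Scheme.Modules.pullback i).obj S
  obtain ⟨O, hzO, i₁, i₂, hO⟩ := TopCat.Presheaf.germ_eq _ (i z) hU hU _ 0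
    (h0.trans (map_zero (((Coh.push i).obj G).presheaf.germ U (i z) hU).hom).symm)
  rw [map_zero] at hO
  have hG : gm G z (U := i ⁻¹ᵁ U) hU ((unit' i S).app U s) = 0 := by
    refine ((DevissLib.gm_map G (i.preimage_mono i₁.le) z hzO _).symm.trans ?_)
    exact (congrArg (gm G z (U := i ⁻¹ᵁ O) hzO) hO).trans (DevissLib.gm_zero G z hzO)
  have h1 := (KFlatLib.stalkPullInv_germ i S z hU s).trans hG
  refine FComplLib.mem_smul_top_of_tmul_eq_zero (R := X.presheaf.stalk (i z)) (S := Z.presheaf.stalk z)
    (i.stalkMap_surjective z) ((ConcreteCategory.bijective_of_isIso ((KFlatLib.stalkPullIso i z).inv.app S)).1 ?_)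
  exact h1.trans (map_zero _).symm

theorem adic_stalk (A : X.Modules) (z : Z) : ∀ n, LinearMap.range ((St (i z)).map (adic i A n).arrow).hom ≤
    RingHom.ker (i.stalkMap z).hom ^ n • (⊤ : Submodule (X.presheaf.stalk (i z)) ((St (i z)).obj A))
  | 0 => by rw [pow_zero, Submodule.one_smul]; exact le_top
  | n + 1 => by
    rintro _ ⟨m, rfl⟩
    let S := adic i A n
    have e : (stepSub i S).arrow = (Subobject.underlyingIso _).hom ≫ kernel.ι (unit' i (S : X.Modules)) ≫ S.arrow :=
      (Subobject.underlyingIso_hom_comp_eq_mk _).symm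
    show ((St (i z)).map (stepSub i S).arrow).hom m ∈ _
    have ec : ∀ {P Q R : X.Modules} (f : P ⟶ Q) (g : Q ⟶ R) (c : (St (i z)).obj P),
        ((St (i z)).map (f ≫ g)).hom c = ((St (i z)).map g).hom (((St (i z)).map f).hom c) := fun f g c => by
      rw [Functor.map_comp]
      rfl
    let w := ((St (i z)).map (kernel.ι (unit' i (S : X.Modules)))).hom
      (((St (i z)).map (Subobject.underlyingIso (kernel.ι (unit' i (S : X.Modules)) ≫ S.arrow)).hom).hom m)
    have hval : ((St (i z)).map (stepSub i S).arrow).hom m = ((St (i z)).map S.arrow).hom w :=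
      (congrArg (fun φ => ((St (i z)).map φ).hom m) e).trans ((ec _ _ m).trans (ec _ _ _))
    have hw : ((St (i z)).map (unit' i (S : X.Modules))).hom w = 0 := by
      show ((St (i z)).map (unit' i (S : X.Modules))).hom (((St (i z)).map (kernel.ι _)).hom _) = 0
      rw [← LinearMap.comp_apply, ← ModuleCat.hom_comp, ← Functor.map_comp, kernel.condition, Functor.map_zero]
      rfl
    have h2 := mem_of_unit_eq_zero i _ z hw
    have h3 : ((St (i z)).map S.arrow).hom w ∈
        (RingHom.ker (i.stalkMap z).hom • (⊤ : Submodule _ _)).map ((St (i z)).map S.arrow).hom :=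
      Submodule.mem_map_of_mem h2
    rw [Submodule.map_smul'', Submodule.map_top] at h3
    rw [pow_succ', mul_smul]
    exact hval.symm ▸ Submodule.smul_mono le_rfl (adic_stalk A z n) h3

theorem exists_pow_kills [IsLocallyNoetherian X] (hA : Coh.IsCoh A) (hs : CohB1.support A ⊆ Set.range ⇑i)
    (U : X.affineOpens) : ∃ N : ℕ, ∀ (p : X) (hp : p ∈ U.1),
      ∀ r ∈ ((i.ker.ideal U) ^ N).map (X.presheaf.germ U.1 p hp).hom, ∀ m : (St p).obj A, r • m = 0 := by
  haveI : Coh.IsQCoh A := hA.1
  haveI : IsNoetherianRing Γ(X, U.1) := IsLocallyNoetherian.component_noetherian U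
  haveI := QCohLib.finite_of_isFT hA.2 U.2
  have h1 : i.ker.ideal U ≤ (Module.annihilator Γ(X, U.1) Γ(A, U.1)).radical := by
    intro g hg
    obtain ⟨-, h2⟩ := QCohLib.localizingAt_of_isQCoh U.2 A g
    have h0 : ∀ m : Γ(A, U.1), ∃ n : ℕ, g ^ n • m = 0 := fun m => by
      suffices h : A.presheaf.map (homOfLE (X.basicOpen_le g)).op m = 0 by
        obtain ⟨n, hn⟩ := h2 m h
        refine ⟨n, ?_⟩
        simpa using hn
      refine TopCat.Presheaf.section_ext ((QCohLib.toAbF X).obj A : TopCat.Sheaf AddCommGrpCat.{u} X.toTopCat)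
        (X.basicOpen g) _ _ fun p hp => ?_
      refine @Subsingleton.elim _ (not_not.mp fun hsp => ?_) _ _
      obtain ⟨z, rfl⟩ := hs hsp
      have hunit := (X.mem_basicOpen g (i z) (X.basicOpen_le g hp)).1 hp
      have h0 : (i.stalkMap z) (X.presheaf.germ U.1 (i z) (X.basicOpen_le g hp) g) = 0 := by
        rw [Scheme.Hom.germ_stalkMap_apply]
        rw [Scheme.Hom.ker_apply, RingHom.mem_ker] at hg
        exact (congrArg _ hg).trans (map_zero _)
      exact not_isUnit_zero (h0 ▸ hunit.map (i.stalkMap z).hom)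
    obtain ⟨s, hs'⟩ := (Module.Finite.fg_top : (⊤ : Submodule Γ(X, U.1) Γ(A, U.1)).FG)
    choose n hn using h0
    refine ⟨∑ m ∈ s, n m, Module.mem_annihilator.2 fun m => ?_⟩
    have hm : m ∈ Submodule.span Γ(X, U.1) (s : Set Γ(A, U.1)) := hs'.ge Submodule.mem_top
    induction hm using Submodule.span_induction with
    | mem a ha =>
      rw [← Nat.sub_add_cancel (Finset.single_le_sum (fun i _ => Nat.zero_le (n i)) ha), pow_add, mul_smul, hn,
        smul_zero]
    | zero => rw [smul_zero]
    | add a b _ _ ha hb => rw [smul_add, ha, hb, add_zero]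
    | smul r a _ ha => rw [smul_comm, ha, smul_zero]
  obtain ⟨N, hN⟩ := Ideal.exists_pow_le_of_le_radical_of_fg h1 (IsNoetherian.noetherian _)
  refine ⟨N, fun p hp r hr m => ?_⟩
  letI := Module.compHom (A.presheaf.stalk p) (X.presheaf.germ U.1 p hp).hom
  haveI := FlatLib.isLocalizedModule_germLin A U.2 hp
  obtain ⟨⟨a, t⟩, ht⟩ := IsLocalizedModule.surj (U.2.primeIdealOf ⟨p, hp⟩).asIdeal.primeCompl (FlatLib.germLin A hp) m
  have hle : ((i.ker.ideal U) ^ N).map (X.presheaf.germ U.1 p hp).hom ≤
      (Submodule.span (X.presheaf.stalk p) {(A.presheaf.germ U.1 p hp a : (St p).obj A)}).annihilator := by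
    rw [Ideal.map_le_iff_le_comap]
    intro g hg
    rw [Ideal.mem_comap, Submodule.mem_annihilator_span_singleton]
    refine (AmpleLib.germ_smul A g a hp).symm.trans ?_
    rw [Module.mem_annihilator.1 (hN hg) a]
    exact map_zero _
  have h3 : r • (A.presheaf.germ U.1 p hp a : (St p).obj A) = 0 :=
    (Submodule.mem_annihilator_span_singleton _ _).1 (hle hr)
  refine ((Module.End.isUnit_iff _).1 (IsLocalizedModule.map_units (FlatLib.germLin A hp) t)).1 ?_
  show X.presheaf.germ U.1 p hp t • (r • m) = X.presheaf.germ U.1 p hp t • (0 : (St p).obj A)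
  rw [smul_comm, smul_zero]
  exact (congrArg (r • ·) ht).trans h3

/-- Every coherent module supported on `Z` has a filtration. -/
theorem nonempty_filt [IsLocallyNoetherian X] (hA : Coh.IsCoh A) (hs : CohB1.support A ⊆ Set.range ⇑i) :
    Nonempty (Filt i A) := by
  refine ⟨{ F := adic i A, top := rfl, anti := fun n => stepSub_le i _, coh := isCoh_adic i hA,
            lf := ?_, kil := fun n => kil_step i _ }⟩
  intro x
  obtain ⟨U, hU, hxU⟩ := QCohLib.exists_affine_nhd x
  obtain ⟨N, hN⟩ := exists_pow_kills i hA hs ⟨U, hU⟩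
  refine ⟨U, U.isOpen.mem_nhds hxU, ((Set.finite_Iio N).preimage ULift.down_injective.injOn).subset ?_⟩
  rintro ⟨n⟩ ⟨p, hp, hpU⟩
  by_contra hn
  simp only [Set.mem_preimage, Set.mem_Iio, not_lt] at hn
  refine hp ⟨fun a b => (ModuleCat.mono_iff_injective ((St p).map (adic i A n).arrow)).1 inferInstance ?_⟩
  obtain ⟨z, rfl⟩ := hs (DevissLib.support_mono (adic i A n).arrow hp)
  have hzero : ∀ c, ((St (i z)).map (adic i A n).arrow).hom c = 0 := fun c => by
    have h := adic_stalk i A z n ⟨c, rfl⟩
    rw [FComplLib.ker_stalkMap i z ⟨U, hU⟩ hpU, ← Ideal.map_pow] at h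
    refine Submodule.smul_induction_on h (fun r hr m _ => ?_) fun a b ha hb => by rw [ha, hb, add_zero]
    refine hN (i z) hpU r (Ideal.map_mono (Ideal.pow_le_pow_right hn) hr) m
  rw [hzero a, hzero b]

end CycKSuppLib

end
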