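import Groth.Agent.CycKSuppLib.Sub
import Groth.Agent.CycKSuppLib.Killed

/-!
# The class on `Z` of a filtration with killed quotients
-/

set_option autoImplicit false
set_option linter.style.haveILetI false
set_option linter.unusedSectionVars false

universe u

open CategoryTheory CategoryTheory.Limits AlgebraicGeometry TopologicalSpace Opposite

noncomputable section

namespace CycKSuppLib

open CycK0Lib (P AddOn LocFin fam)

variable {X Z : Scheme.{u}} {A : X.Modules}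

/-- A locally finite filtration of a coherent module with killed quotients. -/
structure Filt (i : Z ⟶ X) (A : X.Modules) where
  F : ℕ → Subobject A
  top : F 0 = ⊤
  anti : ∀ n, F (n + 1) ≤ F n
  coh : ∀ n, Coh.IsCoh (F n : X.Modules)
  lf : LocFin (fam fun n => (F n : X.Modules))
  kil : ∀ n, Kil i (Q (anti n))

variable [IsLocallyNoetherian X]

theorem isCoh_inf {a b : Subobject A} (hA : Coh.IsCoh A) (ha : Coh.IsCoh (a : X.Modules))
    (hb : Coh.IsCoh (b : X.Modules)) : Coh.IsCoh ((a ⊓ b : Subobject A) : X.Modules) := by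
  haveI : Coh.IsQCoh (a : X.Modules) := ha.1
  haveI : Coh.IsQCoh A := hA.1
  exact QCohLib.isCoh_of_iso (infIso a b).symm ((P.mk hb (D := fun _ : X => True) fun _ _ => trivial).kernel _
    (QCohLib.isQCoh_cokernel a.arrow)).coh

theorem isCoh_sup {a b : Subobject A} (hA : Coh.IsCoh A) (ha : Coh.IsCoh (a : X.Modules))
    (hb : Coh.IsCoh (b : X.Modules)) : Coh.IsCoh ((a ⊔ b : Subobject A) : X.Modules) :=
  QCohLib.isCoh_of_iso (supIso a b).symm (DevissLib.isCoh_image _ (DevissLib.isCoh_biprod ha hb) hA)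

theorem isCoh_Q {S T : Subobject A} (h : T ≤ S) (hS : Coh.IsCoh (S : X.Modules)) (hT : Coh.IsCoh (T : X.Modules)) :
    Coh.IsCoh (Q h) :=
  ((P.mk hS (D := fun _ : X => True) fun _ _ => trivial).cokernel (Subobject.ofLE T S h) hT.1).coh

omit [IsLocallyNoetherian X] in
theorem support_Q {S T : Subobject A} (h : T ≤ S) : CohB1.support (Q h) ⊆ CohB1.support (S : X.Modules) :=
  DevissLib.support_epi (cokernel.π (Subobject.ofLE T S h))

variable {i : Z ⟶ X}

omit [IsLocallyNoetherian X] in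
/-- The graded module of a filtration. -/
abbrev Filt.gr (Φ : Filt i A) : X.Modules := ∐ fam fun n => Q (Φ.anti n)

omit [IsLocallyNoetherian X] in
theorem Filt.locFin_gr (Φ : Filt i A) : LocFin (fam fun n => Q (Φ.anti n)) :=
  Φ.lf.mono fun n => support_Q (Φ.anti n.down)

theorem Filt.isCoh_gr (Φ : Filt i A) : Coh.IsCoh Φ.gr :=
  CycK0Lib.isCoh_sigma Φ.locFin_gr fun n => isCoh_Q _ (Φ.coh _) (Φ.coh _)

omit [IsLocallyNoetherian X] in
theorem Filt.kil_gr (Φ : Filt i A) : Kil i Φ.gr := Kil.sigma Φ.locFin_gr fun n => Φ.kil n.down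

variable (i) [IsClosedImmersion i]

/-- A locally finite chain of killed modules has the class of its quotients. -/
theorem kappa_swindle {G : ℕ → X.Modules} (g : ∀ n, G (n + 1) ⟶ G n) [∀ n, Mono (g n)] (hG : LocFin (fam G))
    (hc : ∀ n, Coh.IsCoh (G n)) (hk : ∀ n, Kil i (G n)) :
    kappa i (G 0) = kappa i (∐ fam fun n => cokernel (g n)) := by
  let T : ULift.{u} ℕ → ShortComplex X.Modules := fun n =>
    ShortComplex.mk (g n.down) (cokernel.π (g n.down)) (cokernel.condition _)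
  have hT : ∀ n, (T n).ShortExact := fun n =>
    { exact := ShortComplex.exact_cokernel _
      mono_f := inferInstanceAs (Mono (g n.down))
      epi_g := inferInstanceAs (Epi (cokernel.π (g n.down))) }
  have hQ : LocFin (fam fun n => cokernel (g n)) := hG.mono fun n => DevissLib.support_epi (cokernel.π (g n.down))
  have hQc : ∀ n, Coh.IsCoh (cokernel (g n)) := fun n =>
    ((P.mk (hc n) (D := fun _ : X => True) fun _ _ => trivial).cokernel (g n) (hc (n + 1)).1).coh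
  have c0 : Coh.IsCoh (∐ fam G) := CycK0Lib.isCoh_sigma hG fun n => hc _
  have k0 : Kil i (∐ fam G) := Kil.sigma hG fun n => hk _
  have c1 : Coh.IsCoh (∐ fam fun n => G (n + 1)) := CycK0Lib.isCoh_sigma (CycK0Lib.locFin_shift G hG) fun n => hc _
  have h1 := kappa_add i (CycK0Lib.shiftCx_shortExact G) c0 k0 c1 (hc 0)
  have h2 := kappa_add i (CycK0Lib.sigmaCx_shortExact T hG hT) c0 k0 c1 (CycK0Lib.isCoh_sigma hQ fun n => hQc _)
  exact add_left_cancel (h1.symm.trans h2)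

variable {i}

/-- The common pieces of two filtrations. -/
abbrev M (Φ Ψ : Filt i A) (m n : ℕ) : Subobject A := Φ.F m ⊓ Ψ.F n

omit [IsClosedImmersion i] [IsLocallyNoetherian X] in
theorem M_le (Φ Ψ : Filt i A) (m n : ℕ) : M Φ Ψ (m + 1) n ⊔ M Φ Ψ m (n + 1) ≤ M Φ Ψ m n :=
  sup_le (inf_le_inf_right _ (Φ.anti m)) (inf_le_inf_left _ (Ψ.anti n))

omit [IsClosedImmersion i] in
theorem isCoh_M (hA : Coh.IsCoh A) (Φ Ψ : Filt i A) (m n : ℕ) : Coh.IsCoh (M Φ Ψ m n : X.Modules) :=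
  isCoh_inf hA (Φ.coh m) (Ψ.coh n)

omit [IsClosedImmersion i] [IsLocallyNoetherian X] in
theorem support_M_left (Φ Ψ : Filt i A) (m n : ℕ) :
    CohB1.support (M Φ Ψ m n : X.Modules) ⊆ CohB1.support (Φ.F m : X.Modules) :=
  DevissLib.support_mono (Subobject.ofLE _ _ inf_le_left)

omit [IsClosedImmersion i] [IsLocallyNoetherian X] in
theorem support_M_right (Φ Ψ : Filt i A) (m n : ℕ) :
    CohB1.support (M Φ Ψ m n : X.Modules) ⊆ CohB1.support (Ψ.F n : X.Modules) :=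
  DevissLib.support_mono (Subobject.ofLE _ _ inf_le_right)

/-- The index pairs. -/
abbrev J2 : Type u := Σ _ : ULift.{u} ℕ, ULift.{u} ℕ

/-- The smallest pieces. -/
abbrev Zp (Φ Ψ : Filt i A) (p : J2.{u}) : X.Modules := Q (M_le Φ Ψ p.1.down p.2.down)

omit [IsClosedImmersion i] in
theorem locFin_Zp (Φ Ψ : Filt i A) : LocFin (Zp Φ Ψ) := by
  intro x
  obtain ⟨t, ht, hf⟩ := Φ.lf x
  obtain ⟨t', ht', hf'⟩ := Ψ.lf x
  refine ⟨t ∩ t', Filter.inter_mem ht ht', ((hf.prod hf').preimage (f := fun p : J2.{u} => (p.1, p.2)) ?_).subset ?_⟩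
  · rintro ⟨a, b⟩ _ ⟨c, d⟩ _ h
    obtain ⟨h1, h2⟩ := Prod.mk.inj h
    rw [Sigma.mk.injEq]
    exact ⟨h1, heq_of_eq h2⟩
  · rintro ⟨a, b⟩ ⟨y, hy, hyt⟩
    exact ⟨⟨y, support_M_left Φ Ψ _ _ (support_Q _ hy), hyt.1⟩, ⟨y, support_M_right Φ Ψ _ _ (support_Q _ hy), hyt.2⟩⟩

theorem kappa_gr_eq (hA : Coh.IsCoh A) (Φ Ψ : Filt i A) : kappa i Φ.gr = kappa i (∐ Zp Φ Ψ) := by
  let hle : ∀ m n, M Φ Ψ (m + 1) n ≤ M Φ Ψ m n := fun m n => inf_le_inf_right _ (Φ.anti m)
  let W : ℕ → ℕ → X.Modules := fun m n => Q (hle m n)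
  have hWc : ∀ m n, Coh.IsCoh (W m n) := fun m n => isCoh_Q _ (isCoh_M hA Φ Ψ _ _) (isCoh_M hA Φ Ψ _ _)
  have hinf : ∀ m n, M Φ Ψ (m + 1) n ⊓ M Φ Ψ m (n + 1) = M Φ Ψ (m + 1) (n + 1) := fun m n =>
    le_antisymm (le_inf (inf_le_left.trans inf_le_left) (inf_le_right.trans inf_le_right))
      (le_inf (inf_le_inf_left _ (Ψ.anti n)) (inf_le_inf_right _ (Φ.anti m)))
  let e : ∀ m n, W m (n + 1) ≅ Q (le_sup_left : M Φ Ψ (m + 1) n ≤ M Φ Ψ (m + 1) n ⊔ M Φ Ψ m (n + 1)) := fun m n =>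
    QIso (hle m (n + 1)) inf_le_right rfl (hinf m n).symm ≪≫ (nonempty_second _ _).some
  let S : ∀ m n, ShortComplex X.Modules := fun m n => thirdCx (le_sup_left : M Φ Ψ (m + 1) n ≤ _) (M_le Φ Ψ m n)
  have hS : ∀ m n, (S m n).ShortExact := fun m n => thirdCx_shortExact _ _
  let w : ∀ m n, W m (n + 1) ⟶ W m n := fun m n => (e m n).hom ≫ (S m n).f
  have hw : ∀ m n, Mono (w m n) := fun m n => by
    haveI := (hS m n).mono_f
    exact mono_comp _ _
  let T : ℕ → ULift.{u} ℕ → ShortComplex X.Modules := fun n m =>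
    ShortComplex.mk (w m.down n) (S m.down n).g (by rw [Category.assoc, ShortComplex.zero, comp_zero])
  have hT : ∀ n m, (T n m).ShortExact := fun n m => by
    refine ShortComplex.shortExact_of_iso (S₁ := S m.down n)
      (ShortComplex.isoMk (S₁ := S m.down n) (S₂ := T n m) (e m.down n).symm (Iso.refl _) (Iso.refl _) ?_ ?_)
      (hS m.down n)
    · simp [T, w]
    · simp [T]
  have hsupp : ∀ m n, CohB1.support (W m n) ⊆ CohB1.support (M Φ Ψ m n : X.Modules) := fun m n => support_Q _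
  have hlf : ∀ n, LocFin (fun m : ULift.{u} ℕ => W m.down n) := fun n =>
    Φ.lf.mono fun m => (hsupp _ n).trans (support_M_left Φ Ψ _ n)
  let E : ℕ → X.Modules := fun n => ∐ fun m : ULift.{u} ℕ => W m.down n
  let g : ∀ n, E (n + 1) ⟶ E n := fun n => Limits.Sigma.map fun m => w m.down n
  have hsig : ∀ n, (CycK0Lib.sigmaCx (T n)).ShortExact := fun n => CycK0Lib.sigmaCx_shortExact (T n) (hlf n) (hT n)
  haveI : ∀ n, Mono (g n) := fun n => (hsig n).mono_f
  have hE : LocFin (fam E) := Ψ.lf.mono fun n =>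
    (CycK0Lib.support_sigma (hlf n.down)).trans
      (Set.iUnion_subset fun m => (hsupp _ _).trans (support_M_right Φ Ψ _ n.down))
  have hkW : ∀ m n, Kil i (W m n) := fun m n => by
    have h0 : ∀ n, Kil i (W m n) := by
      intro n
      induction n with
      | zero =>
        refine (Φ.kil m).of_iso (QIso (Φ.anti m) (hle m 0) ?_ ?_)
        · exact (inf_eq_left.2 (Ψ.top ▸ le_top)).symm
        · exact (inf_eq_left.2 (Ψ.top ▸ le_top)).symm
      | succ n ih =>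
        haveI := hw m n
        exact ih.of_mono (w m n)
    exact h0 n
  have h1 := kappa_swindle i g hE (fun n => CycK0Lib.isCoh_sigma (hlf n) fun m => hWc _ _)
    fun n => Kil.sigma (hlf n) fun m => hkW _ _
  have e0 : kappa i Φ.gr = kappa i (E 0) := kappa_iso i (Sigma.mapIso fun m =>
    QIso (Φ.anti m.down) (hle m.down 0) (inf_eq_left.2 (Ψ.top ▸ le_top)).symm (inf_eq_left.2 (Ψ.top ▸ le_top)).symm)
    Φ.isCoh_gr Φ.kil_gr
  rw [e0, h1]
  have hC : LocFin (fam fun n => cokernel (g n)) :=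
    hE.mono fun n => DevissLib.support_epi (cokernel.π (g n.down))
  refine kappa_iso i ?_ (CycK0Lib.isCoh_sigma hC fun n =>
      ((P.mk (CycK0Lib.isCoh_sigma (hlf n.down) fun m => hWc _ _) (D := fun _ : X => True) fun _ _ => trivial).cokernel
        (g n.down) (CycK0Lib.isCoh_sigma (hlf _) fun m => hWc _ _).1).coh)
    (Kil.sigma hC fun n => (Kil.sigma (hlf n.down) fun m => hkW _ _).of_epi (cokernel.π (g n.down)))
  refine (Sigma.mapIso fun n => (cokernelIsCokernel (g n.down)).coconePointUniqueUpToIso (hsig n.down).gIsCokernel) ≪≫ ?_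
  refine sigmaSigmaIso (fun _ : ULift.{u} ℕ => ULift.{u} ℕ) (fun n m => Q (M_le Φ Ψ m.down n.down)) ≪≫ ?_
  let sw : J2.{u} ≃ J2.{u} := ⟨fun p => ⟨p.2, p.1⟩, fun p => ⟨p.2, p.1⟩, fun _ => rfl, fun _ => rfl⟩
  exact Sigma.whiskerEquiv (f := fun p : J2.{u} => Q (M_le Φ Ψ p.2.down p.1.down)) (g := Zp Φ Ψ) sw fun p => Iso.refl _

theorem kappa_gr_indep (hA : Coh.IsCoh A) (Φ Ψ : Filt i A) : kappa i Φ.gr = kappa i Ψ.gr := by
  rw [kappa_gr_eq hA Φ Ψ, kappa_gr_eq hA Ψ Φ]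
  refine kappa_iso i ?_ (CycK0Lib.isCoh_sigma (locFin_Zp Φ Ψ) fun p =>
    isCoh_Q _ (isCoh_M hA Φ Ψ _ _) (isCoh_sup hA (isCoh_M hA Φ Ψ _ _) (isCoh_M hA Φ Ψ _ _)))
    (Kil.sigma (locFin_Zp Φ Ψ) fun p => ?_)
  · let sw : J2.{u} ≃ J2.{u} := ⟨fun p => ⟨p.2, p.1⟩, fun p => ⟨p.2, p.1⟩, fun _ => rfl, fun _ => rfl⟩
    exact Sigma.whiskerEquiv sw fun p => QIso (M_le Ψ Φ _ _) (M_le Φ Ψ _ _)
      (inf_comm _ _) (by rw [sup_comm]; exact congrArg₂ (· ⊔ ·) (inf_comm _ _) (inf_comm _ _))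
  · -- a quotient of a subobject of a killed quotient
    let b := Φ.F (p.1.down + 1)
    let c := M Φ Ψ p.1.down p.2.down
    have hle2 : b ⊔ c ≤ Φ.F p.1.down := sup_le (Φ.anti _) inf_le_left
    haveI := (thirdCx_shortExact (le_sup_left : b ≤ b ⊔ c) hle2).mono_f
    have k1 : Kil i (Q (le_sup_left : b ≤ b ⊔ c)) :=
      (Φ.kil p.1.down).of_mono (thirdCx (le_sup_left : b ≤ b ⊔ c) hle2).f
    have k2 : Kil i (Q (inf_le_right : b ⊓ c ≤ c)) := k1.of_iso (nonempty_second b c).some.symm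
    have hbc : b ⊓ c ≤ M Φ Ψ (p.1.down + 1) p.2.down ⊔ M Φ Ψ p.1.down (p.2.down + 1) :=
      le_trans (le_inf inf_le_left (inf_le_right.trans inf_le_right)) le_sup_left
    haveI := (thirdCx_shortExact hbc (M_le Φ Ψ p.1.down p.2.down)).epi_g
    exact k2.of_epi (thirdCx hbc (M_le Φ Ψ p.1.down p.2.down)).g

end CycKSuppLib

end
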