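import Mathlib

/-!
# Isomorphism theorems for quotients of subobjects
-/

set_option autoImplicit false
set_option linter.style.haveILetI false
set_option linter.unusedSectionVars false

universe v u

open CategoryTheory CategoryTheory.Limits

noncomputable section

namespace CycKSuppLib

variable {C : Type u} [Category.{v} C] [Abelian C] {A : C}

/-- The quotient of a subobject by a smaller one. -/
abbrev Q {S T : Subobject A} (h : T ≤ S) : C := cokernel (Subobject.ofLE T S h)

/-- Equal pairs have isomorphic quotients. -/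
def QIso {S T S' T' : Subobject A} (h : T ≤ S) (h' : T' ≤ S') (eS : S = S') (eT : T = T') : Q h ≅ Q h' :=
  eqToIso (by subst eS eT; rfl)

theorem factors_of_ofLE {S T : Subobject A} (h : S ≤ T) {Z : C} (l : Z ⟶ (S : C)) : T.Factors (l ≫ S.arrow) :=
  Subobject.factors_of_le (l ≫ S.arrow) h (Subobject.factors_comp_arrow l)

theorem exists_lift_of_factors {S : Subobject A} {Z : C} {f : Z ⟶ A} (h : S.Factors f) :
    ∃ l : Z ⟶ (S : C), l ≫ S.arrow = f := ⟨S.factorThru f h, Subobject.factorThru_arrow _ _ _⟩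

theorem le_of_epi {S T : Subobject A} {P : C} (e : P ⟶ (S : C)) [Epi e] (h : T.Factors (e ≫ S.arrow)) : S ≤ T := by
  obtain ⟨l, hl⟩ := exists_lift_of_factors h
  have h0 : S.arrow ≫ cokernel.π T.arrow = 0 := by
    rw [← cancel_epi e, ← Category.assoc, ← hl, Category.assoc, cokernel.condition, comp_zero, comp_zero]
  exact Subobject.le_of_comm (Abelian.monoLift T.arrow S.arrow h0) (Abelian.monoLift_comp _ _ _)

theorem inf_eq_mk (a b : Subobject A) :
    a ⊓ b = Subobject.mk (kernel.ι (b.arrow ≫ cokernel.π a.arrow) ≫ b.arrow) := by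
  refine le_antisymm ?_ (le_inf ?_ ?_)
  · refine Subobject.le_mk_of_comm (kernel.lift _ (Subobject.ofLE (a ⊓ b) b inf_le_right) ?_) ?_
    · rw [← Category.assoc, Subobject.ofLE_arrow, ← Subobject.ofLE_arrow (inf_le_left : a ⊓ b ≤ a), Category.assoc,
        cokernel.condition, comp_zero]
    · rw [← Category.assoc, kernel.lift_ι, Subobject.ofLE_arrow]
  · have h0 : (kernel.ι (b.arrow ≫ cokernel.π a.arrow) ≫ b.arrow) ≫ cokernel.π a.arrow = 0 := by
      rw [Category.assoc, kernel.condition]
    exact Subobject.mk_le_of_comm (Abelian.monoLift a.arrow _ h0) (Abelian.monoLift_comp _ _ _)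
  · exact Subobject.mk_le_of_comm (kernel.ι _) rfl

/-- The intersection as a kernel. -/
def infIso (a b : Subobject A) : ((a ⊓ b : Subobject A) : C) ≅ kernel (b.arrow ≫ cokernel.π a.arrow) :=
  Subobject.isoOfEq _ _ (inf_eq_mk a b) ≪≫ Subobject.underlyingIso _

theorem sup_eq_mk (a b : Subobject A) :
    a ⊔ b = Subobject.mk (Abelian.image.ι (biprod.desc a.arrow b.arrow)) := by
  refine le_antisymm (sup_le ?_ ?_) ?_
  · exact Subobject.le_mk_of_comm (biprod.inl ≫ Abelian.factorThruImage (biprod.desc a.arrow b.arrow)) (by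
      rw [Category.assoc, Abelian.image.fac, biprod.inl_desc])
  · exact Subobject.le_mk_of_comm (biprod.inr ≫ Abelian.factorThruImage (biprod.desc a.arrow b.arrow)) (by
      rw [Category.assoc, Abelian.image.fac, biprod.inr_desc])
  · let e := Subobject.underlyingIso (Abelian.image.ι (biprod.desc a.arrow b.arrow))
    refine le_of_epi (Abelian.factorThruImage (biprod.desc a.arrow b.arrow) ≫ e.inv) ?_
    have he : e.inv ≫ (Subobject.mk (Abelian.image.ι (biprod.desc a.arrow b.arrow))).arrow =
        Abelian.image.ι (biprod.desc a.arrow b.arrow) := Subobject.underlyingIso_arrow _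
    rw [Category.assoc, he, Abelian.image.fac]
    have h1 : biprod.desc a.arrow b.arrow = biprod.desc (Subobject.ofLE a (a ⊔ b) le_sup_left)
        (Subobject.ofLE b (a ⊔ b) le_sup_right) ≫ (a ⊔ b).arrow := by
      refine biprod.hom_ext' _ _ ?_ ?_
      · rw [biprod.inl_desc, biprod.inl_desc_assoc, Subobject.ofLE_arrow]
      · rw [biprod.inr_desc, biprod.inr_desc_assoc, Subobject.ofLE_arrow]
    rw [h1]
    exact Subobject.factors_comp_arrow _

/-- The union as an image. -/
def supIso (a b : Subobject A) : ((a ⊔ b : Subobject A) : C) ≅ Abelian.image (biprod.desc a.arrow b.arrow) :=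
  Subobject.isoOfEq _ _ (sup_eq_mk a b) ≪≫ Subobject.underlyingIso _

theorem exists_sup_cover (a b : Subobject A) {Z : C} (x : Z ⟶ ((a ⊔ b : Subobject A) : C)) :
    ∃ (Z' : C) (π : Z' ⟶ Z) (_ : Epi π) (u : Z' ⟶ (a : C)) (v : Z' ⟶ (b : C)),
      π ≫ x ≫ (a ⊔ b).arrow = u ≫ a.arrow + v ≫ b.arrow := by
  let f := biprod.desc a.arrow b.arrow
  obtain ⟨Z', π, hπ, y, hy⟩ := surjective_up_to_refinements_of_epi (Abelian.factorThruImage f) (x ≫ (supIso a b).hom)
  refine ⟨Z', π, hπ, y ≫ biprod.fst, y ≫ biprod.snd, ?_⟩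
  have e1 : (supIso a b).hom ≫ Abelian.image.ι f = (a ⊔ b).arrow := by
    simp [supIso, f]
  rw [← e1, ← Category.assoc x, ← Category.assoc, hy, Category.assoc, Abelian.image.fac, Category.assoc,
    Category.assoc, ← Preadditive.comp_add]
  congr 1
  refine biprod.hom_ext' _ _ ?_ ?_
  · simp [f]
  · simp [f]

/-- A map out of a subquotient is mono if it detects membership in the smaller subobject. -/
theorem mono_desc {S T : Subobject A} (h : T ≤ S) {D : C} (u : (S : C) ⟶ D) (hu : Subobject.ofLE T S h ≫ u = 0)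
    (hdet : ∀ {Z : C} (l : Z ⟶ (S : C)), l ≫ u = 0 →
      ∃ (Z' : C) (π : Z' ⟶ Z) (_ : Epi π), T.Factors (π ≫ l ≫ S.arrow)) :
    Mono (cokernel.desc (Subobject.ofLE T S h) u hu) := by
  refine Preadditive.mono_of_cancel_zero _ fun {Z} g hg => ?_
  obtain ⟨Z', π, hπ, l, hl⟩ := surjective_up_to_refinements_of_epi (cokernel.π (Subobject.ofLE T S h)) g
  have hlu : l ≫ u = 0 := by
    rw [← cokernel.π_desc (Subobject.ofLE T S h) u hu, ← Category.assoc, ← hl, Category.assoc, hg, comp_zero]
  obtain ⟨Z'', π', hπ', hf⟩ := hdet l hlu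
  obtain ⟨m, hm⟩ := exists_lift_of_factors hf
  have hl2 : m ≫ Subobject.ofLE T S h = π' ≫ l := by
    rw [← cancel_mono S.arrow, Category.assoc, Subobject.ofLE_arrow, hm, Category.assoc]
  rw [← cancel_epi π, comp_zero, hl, ← cancel_epi π', comp_zero, ← Category.assoc, ← hl2, Category.assoc,
    cokernel.condition, comp_zero]

/-- The sequence of the third isomorphism theorem. -/
abbrev thirdCx {S T U : Subobject A} (hUT : U ≤ T) (hTS : T ≤ S) : ShortComplex C :=
  ShortComplex.mk
    (cokernel.desc (Subobject.ofLE U T hUT) (Subobject.ofLE T S hTS ≫ cokernel.π (Subobject.ofLE U S (hUT.trans hTS)))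
      (by rw [Subobject.ofLE_comp_ofLE_assoc, cokernel.condition]) : Q hUT ⟶ Q (hUT.trans hTS))
    (cokernel.desc (Subobject.ofLE U S (hUT.trans hTS)) (cokernel.π (Subobject.ofLE T S hTS))
      (by rw [← Subobject.ofLE_comp_ofLE U T S hUT hTS, Category.assoc, cokernel.condition, comp_zero]) :
        Q (hUT.trans hTS) ⟶ Q hTS)
    (by rw [← cancel_epi (cokernel.π (Subobject.ofLE U T hUT))]; simp [cokernel.condition])

theorem thirdCx_shortExact {S T U : Subobject A} (hUT : U ≤ T) (hTS : T ≤ S) : (thirdCx hUT hTS).ShortExact := by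
  have hg : Epi (thirdCx hUT hTS).g := by
    haveI : Epi (cokernel.π (Subobject.ofLE U S (hUT.trans hTS)) ≫ (thirdCx hUT hTS).g) := by
      rw [cokernel.π_desc]; infer_instance
    exact epi_of_epi (cokernel.π (Subobject.ofLE U S (hUT.trans hTS))) _
  have hf : Mono (thirdCx hUT hTS).f := by
    refine mono_desc hUT _ _ fun {Z} l hl => ⟨Z, 𝟙 Z, inferInstance, ?_⟩
    rw [← Category.assoc] at hl
    rw [Category.id_comp, show l ≫ T.arrow = Abelian.monoLift _ _ hl ≫ U.arrow by
      rw [← Subobject.ofLE_arrow (hUT.trans hTS), ← Category.assoc, Abelian.monoLift_comp, Category.assoc,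
        Subobject.ofLE_arrow]]
    exact Subobject.factors_comp_arrow _
  refine { exact := ?_, mono_f := hf, epi_g := hg }
  refine ShortComplex.exact_of_g_is_cokernel _ (CokernelCofork.IsColimit.ofπ _ _
    (fun {W} k hk => cokernel.desc (Subobject.ofLE T S hTS)
      (cokernel.π (Subobject.ofLE U S (hUT.trans hTS)) ≫ k) ?_) (fun {W} k hk => ?_) fun {W} k hk m hm => ?_)
  · have h := cokernel.π (Subobject.ofLE U T hUT) ≫= hk
    rw [comp_zero, cokernel.π_desc_assoc, Category.assoc] at h
    exact h
  · rw [← cancel_epi (cokernel.π (Subobject.ofLE U S (hUT.trans hTS)))]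
    simp
  · rw [← cancel_epi (cokernel.π (Subobject.ofLE T S hTS))]
    simp [← hm]

/-- The second isomorphism theorem. -/
theorem nonempty_second (a b : Subobject A) :
    Nonempty (Q (inf_le_right : a ⊓ b ≤ b) ≅ Q (le_sup_left : a ≤ a ⊔ b)) := by
  let u : (b : C) ⟶ Q (le_sup_left : a ≤ a ⊔ b) := Subobject.ofLE b (a ⊔ b) le_sup_right ≫ cokernel.π _
  have hw : Subobject.ofLE (a ⊓ b) b inf_le_right ≫ u = 0 := by
    show _ ≫ Subobject.ofLE b (a ⊔ b) le_sup_right ≫ _ = 0
    rw [Subobject.ofLE_comp_ofLE_assoc,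
      ← Subobject.ofLE_comp_ofLE (a ⊓ b) a (a ⊔ b) inf_le_left le_sup_left, Category.assoc, cokernel.condition,
      comp_zero]
  haveI : Mono (cokernel.desc _ u hw) := by
    refine mono_desc _ u hw fun {Z} l hl => ⟨Z, 𝟙 Z, inferInstance, ?_⟩
    rw [← Category.assoc] at hl
    rw [Category.id_comp]
    refine (Subobject.inf_factors _).mpr ⟨?_, Subobject.factors_comp_arrow l⟩
    rw [show l ≫ b.arrow = Abelian.monoLift _ _ hl ≫ a.arrow by
      rw [← Subobject.ofLE_arrow (le_sup_left : a ≤ a ⊔ b), ← Category.assoc, Abelian.monoLift_comp, Category.assoc,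
        Subobject.ofLE_arrow]]
    exact Subobject.factors_comp_arrow _
  haveI : Epi (cokernel.desc _ u hw) := by
    refine Preadditive.epi_of_cancel_zero _ fun {W} k hk => ?_
    have hk' : u ≫ k = 0 := by
      rw [← cokernel.π_desc _ u hw, Category.assoc, hk, comp_zero]
    rw [← cancel_epi (cokernel.π (Subobject.ofLE a (a ⊔ b) le_sup_left)), comp_zero]
    have h0 : ∀ {Z : C} (x : Z ⟶ ((a ⊔ b : Subobject A) : C)),
        x ≫ cokernel.π (Subobject.ofLE a (a ⊔ b) le_sup_left) ≫ k = 0 := fun {Z} x => by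
      obtain ⟨Z', π, hπ, ua, vb, e⟩ := exists_sup_cover a b x
      have e' : π ≫ x = ua ≫ Subobject.ofLE a (a ⊔ b) le_sup_left + vb ≫ Subobject.ofLE b (a ⊔ b) le_sup_right := by
        rw [← cancel_mono (a ⊔ b).arrow, Preadditive.add_comp, Category.assoc, Category.assoc, Category.assoc,
          Subobject.ofLE_arrow, Subobject.ofLE_arrow, e]
      rw [← cancel_epi π, comp_zero, ← Category.assoc, e', Preadditive.add_comp, Category.assoc, Category.assoc,
        cokernel.condition_assoc, zero_comp, comp_zero, zero_add]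
      refine (congrArg (vb ≫ ·) ?_).trans comp_zero
      simpa [u] using hk'
    simpa using h0 (𝟙 _)
  haveI : IsIso (cokernel.desc _ u hw) := isIso_of_mono_of_epi _
  exact ⟨asIso (cokernel.desc _ u hw)⟩

section Image

variable {B D : C} (p : B ⟶ D)

/-- The image of a subobject. -/
abbrev img (S : Subobject B) : Subobject D := Subobject.mk (Abelian.image.ι (S.arrow ≫ p))

/-- The projection onto the image. -/
def toImg (S : Subobject B) : (S : C) ⟶ (img p S : C) :=
  Abelian.factorThruImage (S.arrow ≫ p) ≫ (Subobject.underlyingIso _).inv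

instance epi_toImg (S : Subobject B) : Epi (toImg p S) := epi_comp _ _

theorem toImg_arrow (S : Subobject B) : toImg p S ≫ (img p S).arrow = S.arrow ≫ p := by
  rw [toImg, Category.assoc, Subobject.underlyingIso_arrow, Abelian.image.fac]

theorem img_mono {S T : Subobject B} (h : T ≤ S) : img p T ≤ img p S := by
  refine le_of_epi (toImg p T) ?_
  rw [toImg_arrow, ← Subobject.ofLE_arrow h, Category.assoc, ← toImg_arrow, ← Category.assoc]
  exact Subobject.factors_comp_arrow _

theorem toImg_ofLE {S T : Subobject B} (h : T ≤ S) :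
    Subobject.ofLE T S h ≫ toImg p S = toImg p T ≫ Subobject.ofLE (img p T) (img p S) (img_mono p h) := by
  rw [← cancel_mono (img p S).arrow, Category.assoc, Category.assoc, toImg_arrow, Subobject.ofLE_arrow, toImg_arrow,
    Subobject.ofLE_arrow_assoc]

/-- The quotient of images is the quotient by the saturated subobject. -/
theorem nonempty_img {S T : Subobject B} (h : T ≤ S) :
    Nonempty (Q (show T ⊔ (Subobject.mk (kernel.ι p) ⊓ S) ≤ S from sup_le h inf_le_right) ≅ Q (img_mono p h)) := by
  let K := Subobject.mk (kernel.ι p) ⊓ S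
  let u : (S : C) ⟶ Q (img_mono p h) := toImg p S ≫ cokernel.π _
  have hK : Subobject.ofLE K S inf_le_right ≫ toImg p S = 0 := by
    rw [← cancel_mono (img p S).arrow, Category.assoc, toImg_arrow, zero_comp, Subobject.ofLE_arrow_assoc,
      ← Subobject.ofLE_arrow (inf_le_left : K ≤ Subobject.mk (kernel.ι p)), Category.assoc,
      ← Subobject.underlyingIso_hom_comp_eq_mk (kernel.ι p), Category.assoc, kernel.condition, comp_zero, comp_zero]
  have hw : Subobject.ofLE (T ⊔ K) S (sup_le h inf_le_right) ≫ u = 0 := by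
    obtain ⟨Z', π, hπ, ua, vb, e⟩ := exists_sup_cover T K (𝟙 _)
    have e' : π ≫ Subobject.ofLE (T ⊔ K) S (sup_le h inf_le_right) =
        ua ≫ Subobject.ofLE T S h + vb ≫ Subobject.ofLE K S inf_le_right := by
      rw [← cancel_mono S.arrow, Preadditive.add_comp, Category.assoc, Category.assoc, Category.assoc,
        Subobject.ofLE_arrow, Subobject.ofLE_arrow, Subobject.ofLE_arrow, ← e, Category.id_comp]
    rw [← cancel_epi π, comp_zero, ← Category.assoc, e', Preadditive.add_comp, Category.assoc, Category.assoc]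
    show ua ≫ Subobject.ofLE T S h ≫ toImg p S ≫ _ + vb ≫ Subobject.ofLE K S inf_le_right ≫ toImg p S ≫ _ = 0
    rw [reassoc_of% hK, zero_comp, comp_zero, add_zero, reassoc_of% (toImg_ofLE p h), cokernel.condition, comp_zero,
      comp_zero]
  haveI : Mono (cokernel.desc _ u hw) := by
    refine mono_desc _ u hw fun {Z} l hl => ?_
    rw [← Category.assoc] at hl
    let m := Abelian.monoLift _ _ hl
    have hm : m ≫ Subobject.ofLE (img p T) (img p S) (img_mono p h) = l ≫ toImg p S := Abelian.monoLift_comp _ _ _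
    obtain ⟨Z', π, hπ, t, ht⟩ := surjective_up_to_refinements_of_epi (toImg p T) m
    refine ⟨Z', π, hπ, ?_⟩
    let d := π ≫ l - t ≫ Subobject.ofLE T S h
    have hd : (d ≫ S.arrow) ≫ p = 0 := by
      rw [Category.assoc, ← toImg_arrow, ← Category.assoc]
      show ((π ≫ l - t ≫ Subobject.ofLE T S h) ≫ toImg p S) ≫ _ = 0
      rw [Preadditive.sub_comp, Category.assoc, Category.assoc, toImg_ofLE, ← hm, reassoc_of% ht, sub_self, zero_comp]
    have hdK : K.Factors (d ≫ S.arrow) := (Subobject.inf_factors _).mpr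
      ⟨⟨kernel.lift p _ hd, kernel.lift_ι _ _ _⟩, Subobject.factors_comp_arrow d⟩
    rw [show π ≫ l ≫ S.arrow = d ≫ S.arrow + t ≫ T.arrow by simp [d, Preadditive.sub_comp]]
    refine Subobject.factors_add _ _ (Subobject.factors_of_le _ le_sup_right hdK) ?_
    exact Subobject.factors_of_le _ le_sup_left (Subobject.factors_comp_arrow t)
  haveI : Epi u := epi_comp _ _
  haveI : Epi (cokernel.π _ ≫ cokernel.desc _ u hw) := by rw [cokernel.π_desc]; infer_instance
  haveI := epi_of_epi (cokernel.π _) (cokernel.desc _ u hw)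
  haveI : IsIso (cokernel.desc _ u hw) := isIso_of_mono_of_epi _
  exact ⟨asIso (cokernel.desc _ u hw)⟩

end Image

end CycKSuppLib

end
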